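import Cfsg.Agent.LThree.Red2
import Cfsg.Agent.CpAut.RankOne
import Cfsg.Agent.S0494
import Cfsg.Agent.S0495
import Cfsg.Agent.S0496
import Cfsg.Agent.Prune
set_option linter.all false
prune_inst 0x7f00000000000000000000000000000000000000000000000000000000000000000000000000000000000000000000000000000000000000000000000000000000000000000000000000000000000000003fffffffffffffffffffffffffffbeffbdffffffff
open scoped Cfsg.Agent.FastGrp

-- merged: Cfsg.Agent.LThree.Red3
section

/-!
# Variants of the reduction `Red.main` with more information for the remaining case (helper7)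

* `main3` : the component `L` of `H / O_{p'}(H)` itself: normal, the only component, `|O_{p'}(H)|` and `|C(L)|` odd,
  `Z(L)` a `p`-group, `p` divides `|L|`;
* `main2` : as `main`, with `p ∣ |L|` in addition;
* `lpAll_of_red2`, `lpAll_of_red3`: the wrappers for `L_p(G)`.
-/

set_option autoImplicit false
set_option linter.unusedSectionVars false
set_option linter.unusedVariables false

namespace Cfsg.Agent.LThree.Red

open Subgroup Cfsg Cfsg.Agent.SignalizersComponents

universe u v

section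

variable {H : Type u} [Group H] [Finite H] {p : ℕ}

/-- `p` divides the order of a component of a group with trivial `p'`-core -/
theorem dvd_card_comp {X : Type u} [Group X] [Finite X] (hp : p.Prime) (hX : pPrimeCore p X = ⊥) {K : Subgroup X}
    (hK : IsComponent K) : p ∣ Nat.card ↥K := by
  by_contra hd
  have hc : (Nat.card ↥(⊤ : Subgroup ↥K)).Coprime p := by
    rw [card_top]
    exact ((Nat.Prime.coprime_iff_not_dvd hp).2 hd).symm
  have h1 := comp_normal_coprime hX hK.1 (N := (⊤ : Subgroup ↥K)) inferInstance hc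
  have h2 : Subsingleton ↥K := by
    refine ⟨fun a b => ?_⟩
    have ha : a ∈ (⊥ : Subgroup ↥K) := h1 ▸ mem_top a
    have hb : b ∈ (⊥ : Subgroup ↥K) := h1 ▸ mem_top b
    rw [mem_bot.1 ha, mem_bot.1 hb]
  exact Components.quasisimple_not_isSolvable hK.2 inferInstance

end

end Cfsg.Agent.LThree.Red

end

-- merged: Cfsg.Agent.CpAutSmall.Base
section

/-!
# `Comps p H` for small groups `H` with a central element of order `p` (helper69)

* `card_dvd` : `x ∈ Z(H)` of order `p`, `K` a component of `H / O_{p'}(H)`: `p |K / Z(K)|` divides `|H|`;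
* `dvd_card_quot` : `p` divides `|K / Z(K)|`;
* `comps_seven` : `p = 7`, `|H| < 3528`: every component is a cover of `L₂(7)`, `Comps 7 H`;
* `comps_five` : `p = 5`, `|H| < 3300` and `1800 ∤ |H|`: `Comps 5 H`;
* `card_le_of_fix` : orbit-stabiliser estimates for centralizers in permutation groups.
-/

set_option autoImplicit false

namespace Cfsg.Agent.CpAutSmall

open Subgroup Cfsg Cfsg.Agent.SignalizersComponents
open Cfsg.Agent.LThree (Comps)

section

variable {H : Type*} [Group H] [Finite H] {p : ℕ}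

theorem card_dvd (hp : p.Prime) {x : H} (hx : orderOf x = p) (hxc : x ∈ center H)
    (K : Subgroup (H ⧸ pPrimeCore p H)) :
    p * Nat.card (↥K ⧸ center ↥K) ∣ Nat.card H := by
  have hn := Lib.Cores.pPrimeCore_normal (G := H) p
  obtain ⟨π, hπ⟩ : ∃ π, π = QuotientGroup.mk' (pPrimeCore p H) := ⟨_, rfl⟩
  have hπs : Function.Surjective π := by rw [hπ]; exact QuotientGroup.mk'_surjective _
  have ho : orderOf (π x) = p := by rw [hπ]; exact CpAut.orderOf_mk_core hp hx
  have hc : π x ∈ center (H ⧸ pPrimeCore p H) := by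
    rw [mem_center_iff]
    intro y
    obtain ⟨h, rfl⟩ := hπs y
    rw [← map_mul, ← map_mul, mem_center_iff.1 hxc h]
  have hZ : (zpowers (π x)).Normal := by
    refine ⟨fun n hn g => ?_⟩
    have h1 : n ∈ center (H ⧸ pPrimeCore p H) := (zpowers_le.2 hc) hn
    rw [mem_center_iff.1 h1 g, mul_inv_cancel_right]
    exact hn
  obtain ⟨f, hf⟩ : ∃ f : ↥K →* (H ⧸ pPrimeCore p H) ⧸ zpowers (π x), f = (QuotientGroup.mk' _).comp K.subtype := ⟨_, rfl⟩
  have hk : f.ker ≤ center ↥K := by
    intro k hk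
    rw [hf, MonoidHom.mem_ker] at hk
    have h1 : (k : H ⧸ pPrimeCore p H) ∈ zpowers (π x) := (QuotientGroup.eq_one_iff _).1 hk
    have h2 : (k : H ⧸ pPrimeCore p H) ∈ center (H ⧸ pPrimeCore p H) := (zpowers_le.2 hc) h1
    rw [mem_center_iff]
    intro g
    exact Subtype.ext (mem_center_iff.1 h2 g)
  have h1 : (center ↥K).index ∣ f.ker.index := index_dvd_of_le hk
  rw [index_ker] at h1
  have h2 : Nat.card ↥f.range ∣ Nat.card ((H ⧸ pPrimeCore p H) ⧸ zpowers (π x)) := card_subgroup_dvd_card _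
  have h3 : Nat.card (H ⧸ pPrimeCore p H) = Nat.card ((H ⧸ pPrimeCore p H) ⧸ zpowers (π x)) * p := by
    rw [card_eq_card_quotient_mul_card_subgroup (zpowers (π x)), Nat.card_zpowers, ho]
  have h4 : Nat.card (H ⧸ pPrimeCore p H) ∣ Nat.card H := by
    rw [card_eq_card_quotient_mul_card_subgroup (pPrimeCore p H)]
    exact dvd_mul_right _ _
  refine dvd_trans ?_ h4
  rw [h3, mul_comm]
  exact mul_dvd_mul_right (dvd_trans h1 h2) p

theorem dvd_card_quot (hp : p.Prime) (K : Subgroup (H ⧸ pPrimeCore p H)) (hK : IsComponent K) :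
    p ∣ Nat.card (↥K ⧸ center ↥K) := by
  have : Fact p.Prime := ⟨hp⟩
  have hn := Lib.Cores.pPrimeCore_normal (G := H) p
  have hb : pPrimeCore p (H ⧸ pPrimeCore p H) = ⊥ := Lib.Cores.pPrimeCore_quotient_pPrimeCore p
  have hd : p ∣ Nat.card ↥K := LThree.Red.dvd_card_comp hp hb hK
  by_contra hcon
  obtain ⟨P⟩ : Nonempty (Sylow p ↥K) := inferInstance
  -- `P ≤ Z(K)`
  have hPZ : (P : Subgroup ↥K) ≤ center ↥K := by
    intro a ha
    have h1 : (QuotientGroup.mk' (center ↥K) a) ^ Nat.card (↥K ⧸ center ↥K) = 1 := pow_card_eq_one'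
    have h2 : orderOf (QuotientGroup.mk' (center ↥K) a) ∣ Nat.card (↥K ⧸ center ↥K) :=
      orderOf_dvd_of_pow_eq_one h1
    obtain ⟨n, hn⟩ := P.isPGroup' ⟨a, ha⟩
    have h3 : a ^ p ^ n = 1 := congrArg Subtype.val hn
    have h4 : orderOf (QuotientGroup.mk' (center ↥K) a) ∣ p ^ n := by
      apply orderOf_dvd_of_pow_eq_one
      rw [← map_pow, h3, map_one]
    have h5 : Nat.Coprime (Nat.card (↥K ⧸ center ↥K)) (p ^ n) :=
      (((Nat.Prime.coprime_iff_not_dvd hp).2 hcon).symm).pow_right n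
    have h6 : orderOf (QuotientGroup.mk' (center ↥K) a) = 1 := Nat.eq_one_of_dvd_coprimes h5 h2 h4
    exact (QuotientGroup.eq_one_iff a).1 (orderOf_eq_one_iff.1 h6)
  have hPb : ∀ a ∈ (P : Subgroup ↥K), a = 1 := by
    intro a ha
    refine CpAut.central_eq_one hK.2.1 P ?_ (hPZ ha) ha
    intro a ha b hb
    exact (mem_center_iff.1 (hPZ hb) a)
  have h1 : (P : Subgroup ↥K) = ⊥ := (eq_bot_iff_forall _).2 hPb
  obtain ⟨a, ha⟩ := exists_prime_orderOf_dvd_card' p hd
  have h2 : IsPGroup p ↥(zpowers a) := IsPGroup.of_card (n := 1) (by rw [Nat.card_zpowers, ha, pow_one])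
  obtain ⟨Q, hQ⟩ := h2.exists_le_sylow
  have h3 : Nat.card ↥(Q : Subgroup ↥K) = Nat.card ↥(P : Subgroup ↥K) := by
    rw [Q.card_eq_multiplicity, P.card_eq_multiplicity]
  rw [h1, card_bot] at h3
  have h4 : (Q : Subgroup ↥K) = ⊥ := (card_eq_one).1 h3
  have h5 : a ∈ (Q : Subgroup ↥K) := hQ (mem_zpowers a)
  rw [h4, mem_bot] at h5
  rw [h5, orderOf_one] at ha
  exact hp.one_lt.ne ha

theorem not_comm_quot {L : Type*} [Group L] (h : IsQuasisimple L) : ¬ IsMulCommutative (L ⧸ center L) := by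
  intro hc
  apply Components.quasisimple_not_isSolvable h
  rw [Group.isSolvable_iff_subgroup_quotient (center L)]
  refine ⟨?_, ?_⟩
  · exact Group.isSolvable_of_comm fun a b => Subtype.ext (mem_center_iff.1 b.2 a)
  · exact Group.isSolvable_of_comm fun a b => hc.is_comm.comm a b

theorem comps_seven {x : H} (hx : orderOf x = 7) (hxc : x ∈ center H) (hc : Nat.card H < 3528) : Comps 7 H := by
  have hn := Lib.Cores.pPrimeCore_normal (G := H) 7
  have hp : Nat.Prime 7 := by norm_num
  intro K hK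
  have h1 := card_dvd hp hx hxc K
  have h2 := dvd_card_quot hp K hK
  have hs : IsSimpleGroup (↥K ⧸ center ↥K) := hK.2.2
  have hb : pPrimeCore 7 (H ⧸ pPrimeCore 7 H) = ⊥ := Lib.Cores.pPrimeCore_quotient_pPrimeCore 7
  have h3 := Nat.le_of_dvd Nat.card_pos h1
  have h4 : Nat.card (↥K ⧸ center ↥K) < 504 := by omega
  have h5 := Cfsg.Agent.S0496.result (not_comm_quot hK.2) (by omega)
  have h6 : Nat.card (↥K ⧸ center ↥K) = 168 := by omega
  refine ⟨hK.2, LThree.Red.isPGroup_center_comp hp hb hK.1, Or.inl (Or.inl (Or.inl ?_)), ?_⟩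
  · have : Fact (Nat.Prime 7) := ⟨hp⟩
    refine ⟨ZMod 7, inferInstance, inferInstance, inferInstance, 2, le_rfl, fun _ => ?_, ?_⟩
    · rw [ZMod.card]; norm_num
    · exact Cfsg.Agent.S0495.result h6 (ZMod.card 7)
  · rintro (⟨h, -⟩ | ⟨h, -⟩)
    · norm_num at h
    · norm_num at h

theorem comps_five {x : H} (hx : orderOf x = 5) (hxc : x ∈ center H) (hc : Nat.card H < 3300)
    (hd : ¬ 1800 ∣ Nat.card H) : Comps 5 H := by
  have hn := Lib.Cores.pPrimeCore_normal (G := H) 5
  have hp : Nat.Prime 5 := by norm_num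
  intro K hK
  have h1 := card_dvd hp hx hxc K
  have h2 := dvd_card_quot hp K hK
  have hs : IsSimpleGroup (↥K ⧸ center ↥K) := hK.2.2
  have hb : pPrimeCore 5 (H ⧸ pPrimeCore 5 H) = ⊥ := Lib.Cores.pPrimeCore_quotient_pPrimeCore 5
  have h3 := Nat.le_of_dvd Nat.card_pos h1
  have h5 := Cfsg.Agent.S0496.result (not_comm_quot hK.2) (by omega)
  have h7 : Nat.card (↥K ⧸ center ↥K) ≠ 360 := by
    intro h
    rw [h] at h1
    exact hd h1
  have h6 : Nat.card (↥K ⧸ center ↥K) = 60 := by omega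
  refine ⟨hK.2, LThree.Red.isPGroup_center_comp hp hb hK.1, Or.inr (Or.inl ?_), ?_⟩
  · exact ⟨5, Or.inl rfl, Cfsg.Agent.S0494.result h6⟩
  · rintro (⟨h, -⟩ | ⟨h, -⟩)
    · norm_num at h
    · norm_num at h

end

end Cfsg.Agent.CpAutSmall

end
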